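import Mathlib.AlgebraicGeometry.Morphisms.Flat
import Mathlib.AlgebraicGeometry.Morphisms.QuasiSeparated
import Groth.Agent.ResProp.EF.K83.FinDatum

/-!
# Sections over a quasi-compact open of `Spec R` and coactions (G1, node P4)
-/

set_option autoImplicit false

universe u

open CategoryTheory AlgebraicGeometry TensorProduct TopologicalSpace

namespace Groth.Agent.ResProp.EF.K183.Gam

section basic

variable {R : Type u} [CommRing R]

/-- `Γ(W)`, `W` open in `Spec R` -/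
abbrev S0 (W : (Spec (CommRingCat.of R)).Opens) : Type u := Γ(Spec (CommRingCat.of R), W)

/-- the restriction `R → Γ(W)` -/
noncomputable def res (W : (Spec (CommRingCat.of R)).Opens) : R →+* S0 W :=
  ((Scheme.ΓSpecIso (CommRingCat.of R)).inv ≫
    (Spec (CommRingCat.of R)).presheaf.map (homOfLE le_top).op).hom

lemma res_top' : CommRingCat.ofHom (res (⊤ : (Spec (CommRingCat.of R)).Opens)) = (Scheme.ΓSpecIso (CommRingCat.of R)).inv := by
  have : (Spec (CommRingCat.of R)).presheaf.map (homOfLE (le_top : (⊤ : (Spec (CommRingCat.of R)).Opens) ≤ ⊤)).op = 𝟙 _ :=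
    (Spec (CommRingCat.of R)).presheaf.map_id _
  rw [res, this, Category.comp_id]
  rfl

/-- the map on sections induced by `f : R → R'` -/
noncomputable def smap {R' : Type u} [CommRing R'] (f : R →+* R') (W : (Spec (CommRingCat.of R)).Opens)
    (W' : (Spec (CommRingCat.of R')).Opens) (h : W' ≤ (Spec.map (CommRingCat.ofHom f)) ⁻¹ᵁ W) : S0 W →+* S0 W' :=
  ((Spec.map (CommRingCat.ofHom f)).appLE W W' h).hom

lemma smap_res {R' : Type u} [CommRing R'] (f : R →+* R') (W : (Spec (CommRingCat.of R)).Opens)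
    (W' : (Spec (CommRingCat.of R')).Opens) (h : W' ≤ (Spec.map (CommRingCat.ofHom f)) ⁻¹ᵁ W) (r : R) :
    smap f W W' h (res W r) = res W' (f r) := by
  have : ((Scheme.ΓSpecIso (CommRingCat.of R)).inv ≫
    (Spec (CommRingCat.of R)).presheaf.map (homOfLE le_top).op) ≫ (Spec.map (CommRingCat.ofHom f)).appLE W W' h =
      CommRingCat.ofHom f ≫ ((Scheme.ΓSpecIso (CommRingCat.of R')).inv ≫
    (Spec (CommRingCat.of R')).presheaf.map (homOfLE le_top).op) := by
    rw [Category.assoc, Scheme.Hom.map_appLE, Scheme.Hom.appLE, ← Category.assoc, ← Category.assoc]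
    congr 1
    exact (Scheme.ΓSpecIso_inv_naturality (CommRingCat.ofHom f)).symm
  exact congr($(this) r)

lemma exists_pow_aux (X : Scheme.{u}) [IsAffine X] (W : X.Opens) (hW : IsCompact W.1) (f : Γ(X, ⊤))
    (hV : X.basicOpen f ≤ W) (x : Γ(X, W)) :
    ∃ (n : ℕ) (a : Γ(X, ⊤)), (X.presheaf.map (homOfLE le_top : W ⟶ ⊤).op f) ^ n * x =
      X.presheaf.map (homOfLE le_top : W ⟶ ⊤).op a := by
  set g := X.presheaf.map (homOfLE le_top : W ⟶ ⊤).op f with hg
  have hb : X.basicOpen g = X.basicOpen f :=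
    (Scheme.basicOpen_res _ _ _).trans (inf_eq_right.mpr hV)
  have hl := (isAffineOpen_top X).isLocalization_basicOpen f
  obtain ⟨⟨y, ⟨_, n, rfl⟩⟩, hy⟩ := IsLocalization.surj (Submonoid.powers f) (X.presheaf.map (homOfLE hV).op x)
  have hcomp : ∀ z : Γ(X, ⊤), X.presheaf.map (homOfLE hV).op (X.presheaf.map (homOfLE le_top : W ⟶ ⊤).op z) =
      algebraMap _ _ z := by
    intro z
    rw [← CommRingCat.comp_apply, ← Functor.map_comp, RingHom.algebraMap_toAlgebra]
    rfl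
  have hy' : X.presheaf.map (homOfLE hV).op (g ^ n * x - X.presheaf.map (homOfLE le_top : W ⟶ ⊤).op y) = 0 := by
    rw [map_sub, sub_eq_zero, map_mul, map_pow, mul_comm, hcomp, hcomp]
    simpa using hy
  obtain ⟨m, hm⟩ := exists_pow_mul_eq_zero_of_res_basicOpen_eq_zero_of_isCompact X hW
    (g ^ n * x - X.presheaf.map (homOfLE le_top : W ⟶ ⊤).op y) g (by
    have : X.presheaf.map (homOfLE hb.le).op (X.presheaf.map (homOfLE hV).op
      (g ^ n * x - X.presheaf.map (homOfLE le_top : W ⟶ ⊤).op y)) = 0 := by rw [hy', map_zero]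
    rw [← CommRingCat.comp_apply, ← Functor.map_comp] at this
    exact this)
  refine ⟨m + n, f ^ m * y, ?_⟩
  rw [mul_sub, sub_eq_zero, ← mul_assoc, ← pow_add] at hm
  rw [hm, map_mul, map_pow]

lemma exists_pow (W : (Spec (CommRingCat.of R)).Opens) (hW : IsCompact W.1) (r : R)
    (hr : PrimeSpectrum.basicOpen r ≤ W) (x : S0 W) : ∃ (n : ℕ) (a : R), res W r ^ n * x = res W a := by
  obtain ⟨n, y, h⟩ := exists_pow_aux (Spec (CommRingCat.of R)) W hW ((Scheme.ΓSpecIso (CommRingCat.of R)).inv r)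
    ((AlgebraicGeometry.basicOpen_eq_of_affine (R := CommRingCat.of R) r).trans_le hr) x
  have hsurj : ∃ a : R, (Scheme.ΓSpecIso (CommRingCat.of R)).inv a = y :=
    ⟨(Scheme.ΓSpecIso (CommRingCat.of R)).hom y, by simp⟩
  obtain ⟨a, rfl⟩ := hsurj
  exact ⟨n, a, h⟩

lemma separated_aux (X : Scheme.{u}) [IsAffine X] {ι : Type*} (f : ι → Γ(X, ⊤)) (W : X.Opens)
    (hW : W = ⨆ i, X.basicOpen (f i)) (x : Γ(X, W))
    (hx : ∀ i, ∃ n : ℕ, (X.presheaf.map (homOfLE le_top : W ⟶ ⊤).op (f i)) ^ n * x = 0) : x = 0 := by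
  apply X.IsSheaf.section_ext
  intro p hp
  have hp' : ∃ i, p ∈ X.basicOpen (f i) := by
    rw [hW] at hp
    exact Opens.mem_iSup.mp hp
  obtain ⟨i, hi⟩ := hp'
  have hle : X.basicOpen (f i) ≤ W := by
    rw [hW]
    exact le_iSup (fun i => X.basicOpen (f i)) i
  refine ⟨_, hle, hi, ?_⟩
  obtain ⟨n, hn⟩ := hx i
  have h1 := congr(X.presheaf.map (homOfLE hle).op $hn)
  have hcomp : ∀ z : Γ(X, ⊤), X.presheaf.map (homOfLE hle).op (X.presheaf.map (homOfLE le_top : W ⟶ ⊤).op z) =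
      algebraMap _ _ z := by
    intro z
    rw [← CommRingCat.comp_apply, ← Functor.map_comp, RingHom.algebraMap_toAlgebra]
    rfl
  have hl := (isAffineOpen_top X).isLocalization_basicOpen (f i)
  rw [map_mul, map_pow, hcomp, map_zero] at h1
  have h2 := (IsLocalization.Away.algebraMap_isUnit (S := Γ(X, X.basicOpen (f i))) (f i)).pow n
  rw [map_zero]
  exact (h2.mul_right_eq_zero).mp h1

/-- `Γ(W)` is separated for the `s i`, `W = ⋃ D(s i)` -/
lemma separated {ι : Type*} (s : ι → R) (W : (Spec (CommRingCat.of R)).Opens)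
    (hW : W = ⨆ i, (PrimeSpectrum.basicOpen (s i) : (Spec (CommRingCat.of R)).Opens)) (x : S0 W)
    (hx : ∀ i, ∃ n : ℕ, res W (s i) ^ n * x = 0) : x = 0 :=
  separated_aux (Spec (CommRingCat.of R)) (fun i => (Scheme.ΓSpecIso (CommRingCat.of R)).inv (s i)) W
    (hW.trans (iSup_congr fun i => (AlgebraicGeometry.basicOpen_eq_of_affine (R := CommRingCat.of R) (s i)).symm)) x hx

lemma isCompact_iSup {ι : Type*} [Finite ι] (s : ι → R) (W : (Spec (CommRingCat.of R)).Opens)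
    (hW : W = ⨆ i, (PrimeSpectrum.basicOpen (s i) : (Spec (CommRingCat.of R)).Opens)) : IsCompact W.1 := by
  have : W.1 = ⋃ i, (PrimeSpectrum.basicOpen (s i) : Set (PrimeSpectrum R)) := by
    rw [hW]
    exact Opens.coe_iSup _
  rw [this]
  exact isCompact_iUnion fun i => PrimeSpectrum.isCompact_basicOpen (s i)

lemma isQuasiSeparated (W : (Spec (CommRingCat.of R)).Opens) : IsQuasiSeparated (α := Spec (CommRingCat.of R)) W.1 :=
  (isQuasiSeparated_univ).of_subset (Set.subset_univ _)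

lemma mem_preimage_iff {ι : Type*} (s : ι → R) (W : (Spec (CommRingCat.of R)).Opens)
    (hW : W = ⨆ i, (PrimeSpectrum.basicOpen (s i) : (Spec (CommRingCat.of R)).Opens)) {R' : Type u} [CommRing R']
    (f : R →+* R') (p : Spec (CommRingCat.of R')) :
    p ∈ (Spec.map (CommRingCat.ofHom f)) ⁻¹ᵁ W ↔ ∃ i, f (s i) ∉ PrimeSpectrum.asIdeal p := by
  have h : p ∈ (Spec.map (CommRingCat.ofHom f)) ⁻¹ᵁ W ↔ (Spec.map (CommRingCat.ofHom f)) p ∈ W := Iff.rfl
  rw [h, hW]
  exact Opens.mem_iSup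

/-- uniqueness of extensions -/
lemma hom_ext {ι : Type*} [Finite ι] (s : ι → R) (W : (Spec (CommRingCat.of R)).Opens)
    (hW : W = ⨆ i, (PrimeSpectrum.basicOpen (s i) : (Spec (CommRingCat.of R)).Opens)) {T : Type*} [CommRing T]
    (f g : S0 W →+* T) (h : ∀ r, f (res W r) = g (res W r))
    (hT : ∀ t : T, (∀ i, ∃ n : ℕ, f (res W (s i)) ^ n * t = 0) → t = 0) : f = g := by
  ext x
  rw [← sub_eq_zero]
  refine hT _ fun i => ?_
  have hle : (PrimeSpectrum.basicOpen (s i) : (Spec (CommRingCat.of R)).Opens) ≤ W := by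
    rw [hW]
    exact le_iSup (fun i => (PrimeSpectrum.basicOpen (s i) : (Spec (CommRingCat.of R)).Opens)) i
  obtain ⟨n, a, hx⟩ := exists_pow W (isCompact_iSup s W hW) (s i) hle x
  refine ⟨n, ?_⟩
  rw [mul_sub, sub_eq_zero, ← map_pow, ← map_mul, hx, h a, ← hx, map_mul, map_pow, map_pow, h]

end basic

section flat

variable {k R O : Type u} [CommRing k] [CommRing R] [CommRing O] [Algebra k R] [Algebra k O]

/-- the open of `Spec (R ⊗ O)` over `W` -/
noncomputable def WO (O : Type u) [CommRing O] [Algebra k O] (W : (Spec (CommRingCat.of R)).Opens) :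
    (Spec (CommRingCat.of (R ⊗[k] O))).Opens :=
  (Spec.map (CommRingCat.ofHom (Algebra.TensorProduct.includeLeftRingHom : R →+* R ⊗[k] O))) ⁻¹ᵁ W

set_option backward.isDefEq.respectTransparency false in
theorem isPushout [Module.Flat k O] (W : (Spec (CommRingCat.of R)).Opens) (hW : IsCompact W.1) :
    IsPushout (CommRingCat.ofHom ((res W).comp (algebraMap k R))) (CommRingCat.ofHom (algebraMap k O))
      (CommRingCat.ofHom (smap (Algebra.TensorProduct.includeLeftRingHom : R →+* R ⊗[k] O) W (WO O W) le_rfl))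
      (CommRingCat.ofHom ((res (WO O W)).comp
        (Algebra.TensorProduct.includeRight : O →ₐ[k] R ⊗[k] O).toRingHom)) := by
  have H := isPullback_SpecMap_of_isPushout _ _ _ _ (CommRingCat.isPushout_tensorProduct k R O)
  have : Flat (Spec.map (CommRingCat.ofHom (algebraMap k O))) := by
    rw [Flat.SpecMap_iff]
    exact (RingHom.flat_algebraMap_iff).mpr inferInstance
  have h1 := isIso_pushoutSection_of_isQuasiSeparated_of_flat_right H (US := ⊤) (UT := ⊤) (UX := W) (UY := WO O W)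
    (by simp) (by simp) (by simp [WO]) (isAffineOpen_top _) (isAffineOpen_top _) hW (isQuasiSeparated W)
  have h2 := (isIso_pushoutSection_iff H _ _ _).mp h1
  refine h2.of_iso (Scheme.ΓSpecIso (CommRingCat.of k)) (Iso.refl _) (Scheme.ΓSpecIso (CommRingCat.of O)) (Iso.refl _)
    ?_ ?_ ?_ ?_
  · have h3 : (Scheme.ΓSpecIso (CommRingCat.of k)).inv ≫
        (Spec.map (CommRingCat.ofHom (algebraMap k R))).appLE ⊤ W le_top =
        CommRingCat.ofHom ((res W).comp (algebraMap k R)) := by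
      ext c
      rw [← res_top']
      exact smap_res (algebraMap k R) ⊤ W le_top c
    rw [← Iso.inv_comp_eq]
    simpa using h3
  · have h3 : (Scheme.ΓSpecIso (CommRingCat.of k)).inv ≫
        (Spec.map (CommRingCat.ofHom (algebraMap k O))).appLE ⊤ ⊤ le_top =
        CommRingCat.ofHom (algebraMap k O) ≫ (Scheme.ΓSpecIso (CommRingCat.of O)).inv := by
      rw [← res_top', ← res_top']
      ext c
      exact smap_res (algebraMap k O) ⊤ ⊤ le_top c
    rw [← Iso.inv_comp_eq, ← Category.assoc]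
    exact (Iso.eq_comp_inv _).mp h3
  · simp [smap]
  · have h3 : (Scheme.ΓSpecIso (CommRingCat.of O)).inv ≫
        (Spec.map (CommRingCat.ofHom (Algebra.TensorProduct.includeRight : O →ₐ[k] R ⊗[k] O).toRingHom)).appLE ⊤ (WO O W) le_top =
        CommRingCat.ofHom ((res (WO O W)).comp
          (Algebra.TensorProduct.includeRight : O →ₐ[k] R ⊗[k] O).toRingHom) := by
      ext c
      rw [← res_top']
      exact smap_res (Algebra.TensorProduct.includeRight : O →ₐ[k] R ⊗[k] O).toRingHom ⊤ _ le_top c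
    rw [← Iso.inv_comp_eq]
    simpa using h3

/-- the canonical map `Γ(W_O) → Γ(W) ⊗ O` -/
theorem exists_desc [Module.Flat k O] (W : (Spec (CommRingCat.of R)).Opens) (hW : IsCompact W.1)
    [Algebra k (S0 W)] (hk : ∀ c : k, algebraMap k (S0 W) c = res W (algebraMap k R c)) :
    ∃ ex : S0 (WO O W) →+* S0 W ⊗[k] O, ∀ (r : R) (o : O), ex (res (WO O W) (r ⊗ₜ[k] o)) = res W r ⊗ₜ[k] o := by
  have h := isPushout (k := k) (O := O) W hW
  have w : CommRingCat.ofHom ((res W).comp (algebraMap k R)) ≫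
      CommRingCat.ofHom (Algebra.TensorProduct.includeLeftRingHom : S0 W →+* S0 W ⊗[k] O) =
      CommRingCat.ofHom (algebraMap k O) ≫
        CommRingCat.ofHom (Algebra.TensorProduct.includeRight : O →ₐ[k] S0 W ⊗[k] O).toRingHom := by
    ext c
    change res W (algebraMap k R c) ⊗ₜ[k] (1 : O) = (1 : S0 W) ⊗ₜ[k] algebraMap k O c
    rw [← hk]
    exact Algebra.TensorProduct.tmul_one_eq_one_tmul c
  refine ⟨(h.desc _ _ w).hom, fun r o => ?_⟩
  have h1 := h.inl_desc _ _ w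
  have h2 := h.inr_desc _ _ w
  have e1 : (h.desc _ _ w).hom (res (WO O W) (r ⊗ₜ[k] (1 : O))) = res W r ⊗ₜ[k] (1 : O) := by
    have := congr($h1 (res W r))
    exact (congrArg (h.desc _ _ w).hom
      (smap_res (Algebra.TensorProduct.includeLeftRingHom : R →+* R ⊗[k] O) W (WO O W) le_rfl r).symm).trans this
  have e2 : (h.desc _ _ w).hom (res (WO O W) ((1 : R) ⊗ₜ[k] o)) = (1 : S0 W) ⊗ₜ[k] o := congr($h2 o)
  have e3 : r ⊗ₜ[k] o = (r ⊗ₜ[k] (1 : O)) * ((1 : R) ⊗ₜ[k] o) := by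
    rw [Algebra.TensorProduct.tmul_mul_tmul, mul_one, one_mul]
  rw [e3, map_mul, map_mul, e1, e2, Algebra.TensorProduct.tmul_mul_tmul, mul_one, one_mul]

end flat

section sep

/-- separation after a flat tensor product -/
theorem separated_tensor {k : Type*} [CommRing k] {ι : Type*} [Finite ι] {D M : Type*} [CommRing D] [Algebra k D]
    [AddCommGroup M] [Module k M] [Module.Flat k M] (s : ι → D)
    (hs : ∀ x : D, (∀ i, ∃ n : ℕ, s i ^ n * x = 0) → x = 0) (t : D ⊗[k] M)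
    (ht : ∀ i, ∃ n : ℕ, (LinearMap.mulLeft k (s i ^ n)).rTensor M t = 0) : t = 0 := by
  classical
  cases nonempty_fintype ι
  choose n hn using ht
  set N := ∑ i, n i with hN
  have hle : ∀ i, n i ≤ N := fun i => Finset.single_le_sum (fun _ _ => Nat.zero_le _) (Finset.mem_univ i)
  have hn' : ∀ i, (LinearMap.mulLeft k (s i ^ N)).rTensor M t = 0 := by
    intro i
    have : LinearMap.mulLeft k (s i ^ N) = (LinearMap.mulLeft k (s i ^ (N - n i))) ∘ₗ LinearMap.mulLeft k (s i ^ n i) := by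
      ext x
      simp only [LinearMap.mulLeft_apply, LinearMap.comp_apply]
      rw [← mul_assoc, ← pow_add, Nat.sub_add_cancel (hle i)]
    rw [this, LinearMap.rTensor_comp_apply, hn, map_zero]
  let φ : D →ₗ[k] (ι → D) := LinearMap.pi fun i => LinearMap.mulLeft k (s i ^ N)
  have hφ : Function.Injective φ := by
    rw [← LinearMap.ker_eq_bot, LinearMap.ker_eq_bot']
    intro x hx
    exact hs x fun i => ⟨N, congrFun hx i⟩
  have hφ' : φ = ∑ i, (LinearMap.single k (fun _ : ι => D) i) ∘ₗ (LinearMap.mulLeft k (s i ^ N)) := by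
    ext x j
    simp [φ, LinearMap.sum_apply, Pi.single_apply]
  have hinj := Module.Flat.rTensor_preserves_injective_linearMap (M := M) φ hφ
  apply hinj
  rw [map_zero, hφ', ← LinearMap.coe_rTensorHom, map_sum, LinearMap.sum_apply]
  refine Finset.sum_eq_zero fun i _ => ?_
  rw [LinearMap.coe_rTensorHom, LinearMap.rTensor_comp_apply, hn', map_zero]

/-- the same for ring structures: `M = O` an algebra -/
theorem separated_tensor_ring {k : Type*} [CommRing k] {ι : Type*} [Finite ι] {D O : Type*} [CommRing D] [Algebra k D]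
    [CommRing O] [Algebra k O] [Module.Flat k O] (s : ι → D)
    (hs : ∀ x : D, (∀ i, ∃ n : ℕ, s i ^ n * x = 0) → x = 0) (t : D ⊗[k] O) (c : ι → O) (hc : ∀ i, IsUnit (c i))
    (ht : ∀ i, ∃ n : ℕ, (s i ⊗ₜ[k] c i) ^ n * t = 0) : t = 0 := by
  refine separated_tensor s hs t fun i => ?_
  obtain ⟨n, hn⟩ := ht i
  refine ⟨n, ?_⟩
  have h1 : ∀ u : D ⊗[k] O, (LinearMap.mulLeft k (s i ^ n)).rTensor O u = ((s i ^ n) ⊗ₜ[k] (1 : O)) * u := by
    intro u
    induction u with
    | zero => simp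
    | add x y hx hy => rw [map_add, mul_add, hx, hy]
    | tmul x y => simp
  rw [h1]
  obtain ⟨d, hd⟩ := (hc i).pow n
  have h2 : ((s i ^ n) ⊗ₜ[k] (1 : O)) = ((1 : D) ⊗ₜ[k] (↑d⁻¹ : O)) * (s i ⊗ₜ[k] c i) ^ n := by
    rw [Algebra.TensorProduct.tmul_pow, Algebra.TensorProduct.tmul_mul_tmul, one_mul, ← hd, Units.inv_mul]
  rw [h2, mul_assoc, hn, mul_zero]

end sep

section coact

variable {k R O : Type u} [CommRing k] [CommRing R] [CommRing O] [Algebra k R]

/-- existence of the extended coaction -/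
theorem exists_coact [Algebra k O] [Module.Flat k O] {ι : Type*} [Finite ι] (s : ι → R)
    (W : (Spec (CommRingCat.of R)).Opens)
    (hW : W = ⨆ i, (PrimeSpectrum.basicOpen (s i) : (Spec (CommRingCat.of R)).Opens))
    [Algebra k (S0 W)] (hk : ∀ c : k, algebraMap k (S0 W) c = res W (algebraMap k R c))
    (ρ : R →ₐ[k] R ⊗[k] O) (χ : ι → O) (hχ : ∀ i, IsUnit (χ i)) (hρ : ∀ i, ρ (s i) = s i ⊗ₜ[k] χ i)
    (i' : R →ₐ[k] S0 W) (hi' : ∀ r, i' r = res W r) :
    ∃ ρ0 : S0 W →ₐ[k] S0 W ⊗[k] O, ∀ r, ρ0 (res W r) = Algebra.TensorProduct.map i' (AlgHom.id k O) (ρ r) := by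
  obtain ⟨ex, hex⟩ := exists_desc (k := k) (O := O) W (isCompact_iSup s W hW) hk
  have hle : WO O W ≤ (Spec.map (CommRingCat.ofHom (ρ : R →+* R ⊗[k] O))) ⁻¹ᵁ W := by
    intro p hp
    obtain ⟨i, hi⟩ := (mem_preimage_iff s W hW _ p).mp hp
    refine (mem_preimage_iff s W hW _ p).mpr ⟨i, fun h => hi ?_⟩
    change ρ (s i) ∈ PrimeSpectrum.asIdeal p at h
    rw [hρ] at h
    obtain ⟨d, hd⟩ := hχ i
    have : Algebra.TensorProduct.includeLeftRingHom (s i) = (s i ⊗ₜ[k] χ i) * ((1 : R) ⊗ₜ[k] (↑d⁻¹ : O)) := by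
      rw [Algebra.TensorProduct.tmul_mul_tmul, mul_one, ← hd, Units.mul_inv]
      rfl
    rw [this]
    exact Ideal.mul_mem_right _ _ h
  have hex' : ∀ z : R ⊗[k] O, ex (res (WO O W) z) = Algebra.TensorProduct.map i' (AlgHom.id k O) z := by
    intro z
    induction z with
    | zero => simp
    | add x y hx hy => rw [map_add, map_add, hx, hy, map_add]
    | tmul x y => rw [hex, Algebra.TensorProduct.map_tmul, hi']; rfl
  let r0 : S0 W →+* S0 W ⊗[k] O := ex.comp (smap (ρ : R →+* R ⊗[k] O) W (WO O W) hle)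
  have hr0 : ∀ r, r0 (res W r) = Algebra.TensorProduct.map i' (AlgHom.id k O) (ρ r) := by
    intro r
    change ex (smap (ρ : R →+* R ⊗[k] O) W (WO O W) hle (res W r)) = _
    rw [smap_res]
    exact hex' (ρ r)
  refine ⟨{ r0 with commutes' := fun c => ?_ }, hr0⟩
  change r0 (algebraMap k (S0 W) c) = _
  rw [hk, hr0, AlgHom.commutes, AlgHom.commutes]

omit [Algebra k R] in
/-- separation of `Γ(W) ⊗ M'` seen through `res (s i) ⊗ unit` -/
theorem sep_aux {ι : Type*} [Finite ι] (s : ι → R)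
    (W : (Spec (CommRingCat.of R)).Opens)
    (hW : W = ⨆ i, (PrimeSpectrum.basicOpen (s i) : (Spec (CommRingCat.of R)).Opens))
    [Algebra k (S0 W)] {P : Type*} [CommRing P] [Algebra k P] [Module.Flat k P] (c : ι → P) (hc : ∀ i, IsUnit (c i))
    (t : S0 W ⊗[k] P) (ht : ∀ i, ∃ n : ℕ, (res W (s i) ⊗ₜ[k] c i) ^ n * t = 0) : t = 0 :=
  separated_tensor_ring (fun i => res W (s i)) (separated s W hW) t c hc ht

theorem coassoc [Bialgebra k O] [Module.Flat k O] {ι : Type*} [Finite ι] (s : ι → R)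
    (W : (Spec (CommRingCat.of R)).Opens)
    (hW : W = ⨆ i, (PrimeSpectrum.basicOpen (s i) : (Spec (CommRingCat.of R)).Opens))
    [Algebra k (S0 W)]
    (ρ : R →ₐ[k] R ⊗[k] O) (χ : ι → O) (hχ : ∀ i, IsUnit (χ i)) (hρ : ∀ i, ρ (s i) = s i ⊗ₜ[k] χ i)
    (i' : R →ₐ[k] S0 W) (hi' : ∀ r, i' r = res W r)
    (ρ0 : S0 W →ₐ[k] S0 W ⊗[k] O) (hρ0 : ∀ r, ρ0 (res W r) = Algebra.TensorProduct.map i' (AlgHom.id k O) (ρ r))
    (hassoc : (TensorProduct.assoc k R O O).toLinearMap ∘ₗ ρ.toLinearMap.rTensor O ∘ₗ ρ.toLinearMap =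
      (CoalgebraStruct.comul (R := k) (A := O)).lTensor R ∘ₗ ρ.toLinearMap) :
    (TensorProduct.assoc k (S0 W) O O).toLinearMap ∘ₗ ρ0.toLinearMap.rTensor O ∘ₗ ρ0.toLinearMap =
      (CoalgebraStruct.comul (R := k) (A := O)).lTensor (S0 W) ∘ₗ ρ0.toLinearMap := by
  let f : S0 W →ₐ[k] S0 W ⊗[k] (O ⊗[k] O) := (Algebra.TensorProduct.assoc k k k (S0 W) O O).toAlgHom.comp
    ((Algebra.TensorProduct.map ρ0 (AlgHom.id k O)).comp ρ0)
  let g : S0 W →ₐ[k] S0 W ⊗[k] (O ⊗[k] O) :=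
    (Algebra.TensorProduct.map (AlgHom.id k (S0 W)) (Bialgebra.comulAlgHom k O)).comp ρ0
  have hf : ∀ x, f x = ((TensorProduct.assoc k (S0 W) O O).toLinearMap ∘ₗ ρ0.toLinearMap.rTensor O ∘ₗ
      ρ0.toLinearMap) x := fun x => rfl
  have hg : ∀ x, g x = ((CoalgebraStruct.comul (R := k) (A := O)).lTensor (S0 W) ∘ₗ ρ0.toLinearMap) x := fun x => rfl
  have key : ∀ z : R ⊗[k] O, (Algebra.TensorProduct.assoc k k k (S0 W) O O)
      (Algebra.TensorProduct.map ρ0 (AlgHom.id k O) (Algebra.TensorProduct.map i' (AlgHom.id k O) z)) =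
      Algebra.TensorProduct.map i' (AlgHom.id k (O ⊗[k] O)) ((TensorProduct.assoc k R O O)
        (ρ.toLinearMap.rTensor O z)) := by
    intro z
    induction z with
    | zero => simp
    | add x y hx hy => simp only [map_add, hx, hy]
    | tmul r o =>
      rw [Algebra.TensorProduct.map_tmul, Algebra.TensorProduct.map_tmul, hi', hρ0, LinearMap.rTensor_tmul]
      change _ = Algebra.TensorProduct.map i' (AlgHom.id k (O ⊗[k] O)) ((TensorProduct.assoc k R O O) (ρ r ⊗ₜ[k] o))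
      generalize ρ r = w
      induction w with
      | zero => simp
      | add x y hx hy => simp only [map_add, TensorProduct.add_tmul, hx, hy]
      | tmul a b => simp
  have key2 : ∀ z : R ⊗[k] O, Algebra.TensorProduct.map (AlgHom.id k (S0 W)) (Bialgebra.comulAlgHom k O)
      (Algebra.TensorProduct.map i' (AlgHom.id k O) z) =
      Algebra.TensorProduct.map i' (AlgHom.id k (O ⊗[k] O)) ((CoalgebraStruct.comul (R := k) (A := O)).lTensor R z) := by
    intro z
    induction z with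
    | zero => simp
    | add x y hx hy => simp only [map_add, hx, hy]
    | tmul r o => simp
  have hfg : ∀ r, f (res W r) = g (res W r) := by
    intro r
    change (Algebra.TensorProduct.assoc k k k (S0 W) O O) (Algebra.TensorProduct.map ρ0 (AlgHom.id k O) (ρ0 (res W r))) =
      Algebra.TensorProduct.map (AlgHom.id k (S0 W)) (Bialgebra.comulAlgHom k O) (ρ0 (res W r))
    rw [hρ0, key, key2]
    exact congrArg _ (LinearMap.congr_fun hassoc r)
  have hfs : ∀ i, f (res W (s i)) = res W (s i) ⊗ₜ[k] (χ i ⊗ₜ[k] χ i) := by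
    intro i
    change (Algebra.TensorProduct.assoc k k k (S0 W) O O) (Algebra.TensorProduct.map ρ0 (AlgHom.id k O) (ρ0 (res W (s i)))) = _
    rw [hρ0, hρ, Algebra.TensorProduct.map_tmul, Algebra.TensorProduct.map_tmul, hi', hρ0, hρ,
      Algebra.TensorProduct.map_tmul, hi']
    rfl
  have hχχ : ∀ i, IsUnit (χ i ⊗ₜ[k] χ i : O ⊗[k] O) := by
    intro i
    have := ((hχ i).map (Algebra.TensorProduct.includeLeft : O →ₐ[k] O ⊗[k] O)).mul
      ((hχ i).map (Algebra.TensorProduct.includeRight : O →ₐ[k] O ⊗[k] O))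
    simpa using this
  have hfg' : (f : S0 W →+* S0 W ⊗[k] (O ⊗[k] O)) = g := by
    refine hom_ext s W hW _ _ hfg fun t ht => ?_
    refine sep_aux s W hW (fun i => χ i ⊗ₜ[k] χ i) hχχ t fun i => ?_
    obtain ⟨n, hn⟩ := ht i
    exact ⟨n, by rw [← hfs]; exact hn⟩
  ext x
  rw [← hf, ← hg]
  exact congr($hfg' x)

theorem counit [Bialgebra k O] [Module.Flat k O] {ι : Type*} [Finite ι] (s : ι → R)
    (W : (Spec (CommRingCat.of R)).Opens)
    (hW : W = ⨆ i, (PrimeSpectrum.basicOpen (s i) : (Spec (CommRingCat.of R)).Opens))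
    [Algebra k (S0 W)]
    (ρ : R →ₐ[k] R ⊗[k] O)
    (i' : R →ₐ[k] S0 W) (hi' : ∀ r, i' r = res W r)
    (ρ0 : S0 W →ₐ[k] S0 W ⊗[k] O) (hρ0 : ∀ r, ρ0 (res W r) = Algebra.TensorProduct.map i' (AlgHom.id k O) (ρ r))
    (hc : ∀ r, (Coalgebra.counit (R := k) (A := O)).lTensor R (ρ r) = r ⊗ₜ[k] (1 : k)) (x : S0 W) :
    (Coalgebra.counit (R := k) (A := O)).lTensor (S0 W) (ρ0 x) = x ⊗ₜ[k] (1 : k) := by
  let f : S0 W →ₐ[k] S0 W ⊗[k] k := Algebra.TensorProduct.includeLeft
  let g : S0 W →ₐ[k] S0 W ⊗[k] k :=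
    (Algebra.TensorProduct.map (AlgHom.id k (S0 W)) (Bialgebra.counitAlgHom k O)).comp ρ0
  have key2 : ∀ z : R ⊗[k] O, Algebra.TensorProduct.map (AlgHom.id k (S0 W)) (Bialgebra.counitAlgHom k O)
      (Algebra.TensorProduct.map i' (AlgHom.id k O) z) =
      Algebra.TensorProduct.map i' (AlgHom.id k k) ((Coalgebra.counit (R := k) (A := O)).lTensor R z) := by
    intro z
    induction z with
    | zero => simp
    | add x y hx hy => simp only [map_add, hx, hy]
    | tmul r o => simp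
  have hfg : ∀ r, f (res W r) = g (res W r) := by
    intro r
    change (res W r) ⊗ₜ[k] (1 : k) =
      Algebra.TensorProduct.map (AlgHom.id k (S0 W)) (Bialgebra.counitAlgHom k O) (ρ0 (res W r))
    rw [hρ0, key2, hc, Algebra.TensorProduct.map_tmul, hi', AlgHom.id_apply]
  have hfg' : (f : S0 W →+* S0 W ⊗[k] k) = g := by
    refine hom_ext s W hW _ _ hfg fun t ht => ?_
    exact sep_aux s W hW (fun _ => (1 : k)) (fun _ => isUnit_one) t ht
  exact congr($hfg' x).symm

/-- **P4**: the coaction of `O` on `R` extends to `Γ(W)`, `W = ⋃ D(s i)`, `s i` semi-invariant. -/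
theorem exists_coAlg [HopfAlgebra k O] [Module.Flat k O] {ι : Type*} [Finite ι] (s : ι → R)
    (W : (Spec (CommRingCat.of R)).Opens)
    (hW : W = ⨆ i, (PrimeSpectrum.basicOpen (s i) : (Spec (CommRingCat.of R)).Opens))
    [Algebra k (S0 W)] (i' : R →ₐ[k] S0 W) (hi' : ∀ r, i' r = res W r)
    (c : K83.CoAlg k O R) (χ : ι → O) (hχ : ∀ i, IsUnit (χ i)) (hρ : ∀ i, c.ρ (s i) = s i ⊗ₜ[k] χ i) :
    ∃ c0 : K83.CoAlg k O (S0 W), ∀ r, c0.ρ (res W r) = Algebra.TensorProduct.map i' (AlgHom.id k O) (c.ρ r) := by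
  obtain ⟨ρ0, h⟩ := exists_coact s W hW (fun a => by rw [← hi', AlgHom.commutes]) c.ρ χ hχ hρ i' hi'
  have h1 := coassoc s W hW c.ρ χ hχ hρ i' hi' ρ0 h (LinearMap.ext c.coassoc)
  exact ⟨⟨ρ0, fun x => LinearMap.congr_fun h1 x, counit s W hW c.ρ i' hi' ρ0 h c.counit⟩, h⟩

/-- naturality: an equivariant `f : R → R₁` with `W₁ = ⋃ D(f (s i))` gives an equivariant map on sections. -/
theorem natural [HopfAlgebra k O] [Module.Flat k O] {ι : Type*} [Finite ι] (s : ι → R)
    (W : (Spec (CommRingCat.of R)).Opens)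
    (hW : W = ⨆ i, (PrimeSpectrum.basicOpen (s i) : (Spec (CommRingCat.of R)).Opens))
    [Algebra k (S0 W)] (i' : R →ₐ[k] S0 W) (hi' : ∀ r, i' r = res W r)
    (c : K83.CoAlg k O R) (χ : ι → O) (hχ : ∀ i, IsUnit (χ i)) (hρ : ∀ i, c.ρ (s i) = s i ⊗ₜ[k] χ i)
    (c0 : K83.CoAlg k O (S0 W)) (hc0 : ∀ r, c0.ρ (res W r) = Algebra.TensorProduct.map i' (AlgHom.id k O) (c.ρ r))
    {R₁ : Type u} [CommRing R₁] [Algebra k R₁] (W₁ : (Spec (CommRingCat.of R₁)).Opens)
    [Algebra k (S0 W₁)] (i₁ : R₁ →ₐ[k] S0 W₁) (hi₁ : ∀ r, i₁ r = res W₁ r)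
    (c₁ : K83.CoAlg k O R₁) (c₁0 : K83.CoAlg k O (S0 W₁))
    (hc₁0 : ∀ r, c₁0.ρ (res W₁ r) = Algebra.TensorProduct.map i₁ (AlgHom.id k O) (c₁.ρ r))
    (f : R →ₐ[k] R₁) (hf : ∀ r, c₁.ρ (f r) = Algebra.TensorProduct.map f (AlgHom.id k O) (c.ρ r))
    (hW₁ : W₁ = ⨆ i, (PrimeSpectrum.basicOpen (f (s i)) : (Spec (CommRingCat.of R₁)).Opens))
    (f0 : S0 W →ₐ[k] S0 W₁) (hf0 : ∀ r, f0 (res W r) = res W₁ (f r)) (x : S0 W) :
    c₁0.ρ (f0 x) = Algebra.TensorProduct.map f0 (AlgHom.id k O) (c0.ρ x) := by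
  let F : S0 W →ₐ[k] S0 W₁ ⊗[k] O := c₁0.ρ.comp f0
  let G : S0 W →ₐ[k] S0 W₁ ⊗[k] O := (Algebra.TensorProduct.map f0 (AlgHom.id k O)).comp c0.ρ
  have key : ∀ z : R ⊗[k] O, Algebra.TensorProduct.map f0 (AlgHom.id k O) (Algebra.TensorProduct.map i' (AlgHom.id k O) z)
      = Algebra.TensorProduct.map i₁ (AlgHom.id k O) (Algebra.TensorProduct.map f (AlgHom.id k O) z) := by
    intro z
    induction z with
    | zero => simp
    | add x y hx hy => simp only [map_add, hx, hy]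
    | tmul r o => simp only [Algebra.TensorProduct.map_tmul, hi', hf0, hi₁, AlgHom.id_apply]
  have hFG : ∀ r, F (res W r) = G (res W r) := by
    intro r
    change c₁0.ρ (f0 (res W r)) = Algebra.TensorProduct.map f0 (AlgHom.id k O) (c0.ρ (res W r))
    rw [hf0, hc₁0, hf, hc0, key]
  have hFs : ∀ i, F (res W (s i)) = res W₁ (f (s i)) ⊗ₜ[k] χ i := by
    intro i
    change c₁0.ρ (f0 (res W (s i))) = _
    rw [hf0, hc₁0, hf, hρ, Algebra.TensorProduct.map_tmul, Algebra.TensorProduct.map_tmul, hi₁]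
    rfl
  have h : (F : S0 W →+* S0 W₁ ⊗[k] O) = G := by
    refine hom_ext s W hW _ _ hFG fun t ht => ?_
    refine sep_aux (fun i => f (s i)) W₁ hW₁ χ hχ t fun i => ?_
    obtain ⟨n, hn⟩ := ht i
    exact ⟨n, by rw [← hFs]; exact hn⟩
  exact congr($h x)

end coact

section equalizer

/-- the equalizer of two equivariant maps is a subcomodule -/
theorem equalizer_stable {k : Type*} [CommRing k] {D D₁ O : Type*} [AddCommGroup D] [AddCommGroup D₁] [AddCommGroup O]
    [Module k D] [Module k D₁] [Module k O] [Module.Flat k O] (ρ : D →ₗ[k] D ⊗[k] O) (ρ₁ : D₁ →ₗ[k] D₁ ⊗[k] O)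
    (σ τ : D →ₗ[k] D₁) (hσ : ∀ x, ρ₁ (σ x) = σ.rTensor O (ρ x)) (hτ : ∀ x, ρ₁ (τ x) = τ.rTensor O (ρ x))
    (x : D) (hx : σ x = τ x) :
    ρ x ∈ LinearMap.range ((LinearMap.ker (σ - τ)).subtype.rTensor O) := by
  have h1 := Module.Flat.rTensor_exact (M := O) (f := (LinearMap.ker (σ - τ)).subtype) (g := σ - τ)
    (LinearMap.exact_subtype_ker_map _)
  refine LinearMap.mem_range.mpr ((h1 _).mp ?_)
  rw [LinearMap.rTensor_sub, LinearMap.sub_apply, ← hσ, ← hτ, hx, sub_self]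

end equalizer

end Groth.Agent.ResProp.EF.K183.Gam
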